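import Cfsg.Agent.Fisch.FA.X
import Cfsg.Agent.Fisch.F22.Z2
import Cfsg.Agent.LX.Pair

set_option autoImplicit false
set_option maxRecDepth 1000000
set_option maxHeartbeats 0
set_option Elab.async false

namespace CF.Fisch.FA.Z4

open CF.Comp CF.Fisch CF.Fisch.FA Subgroup
open scoped Pointwise

noncomputable def a_gs : List (List Nat) := [[(nat_lit 21), (nat_lit 3), (nat_lit 52), (nat_lit 5), (nat_lit 3), (nat_lit 5), (nat_lit 51), (nat_lit 59), (nat_lit 13), (nat_lit 21), (nat_lit 19), (nat_lit 5), (nat_lit 61)],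
  [(nat_lit 52), (nat_lit 3), (nat_lit 47), (nat_lit 3), (nat_lit 39), (nat_lit 30), (nat_lit 7), (nat_lit 32), (nat_lit 50), (nat_lit 43), (nat_lit 59), (nat_lit 22), (nat_lit 61)],
  [(nat_lit 21), (nat_lit 3), (nat_lit 52), (nat_lit 5), (nat_lit 3), (nat_lit 1), (nat_lit 5), (nat_lit 31), (nat_lit 40), (nat_lit 19), (nat_lit 44), (nat_lit 22), (nat_lit 23), (nat_lit 61)],
  [(nat_lit 39), (nat_lit 3), (nat_lit 43), (nat_lit 3), (nat_lit 1), (nat_lit 43), (nat_lit 13), (nat_lit 51), (nat_lit 59), (nat_lit 19), (nat_lit 47), (nat_lit 19), (nat_lit 61)],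
  [(nat_lit 39), (nat_lit 3), (nat_lit 43), (nat_lit 3), (nat_lit 30), (nat_lit 25), (nat_lit 22), (nat_lit 43), (nat_lit 15), (nat_lit 47), (nat_lit 19), (nat_lit 61)],
  [(nat_lit 9), (nat_lit 31), (nat_lit 11), (nat_lit 27), (nat_lit 53), (nat_lit 22)],
  [(nat_lit 21), (nat_lit 3), (nat_lit 52), (nat_lit 5), (nat_lit 3), (nat_lit 23), (nat_lit 32), (nat_lit 48), (nat_lit 28), (nat_lit 23), (nat_lit 53), (nat_lit 21), (nat_lit 61)],
  [(nat_lit 59), (nat_lit 31), (nat_lit 53), (nat_lit 17), (nat_lit 28), (nat_lit 15)],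
  [(nat_lit 39), (nat_lit 3), (nat_lit 43), (nat_lit 3), (nat_lit 1), (nat_lit 9), (nat_lit 11), (nat_lit 59), (nat_lit 30), (nat_lit 45), (nat_lit 43), (nat_lit 9), (nat_lit 61)],
  [(nat_lit 37), (nat_lit 49), (nat_lit 42), (nat_lit 59), (nat_lit 19), (nat_lit 44), (nat_lit 9)],
  [(nat_lit 1), (nat_lit 3), (nat_lit 5), (nat_lit 1), (nat_lit 3), (nat_lit 1), (nat_lit 3), (nat_lit 1), (nat_lit 5), (nat_lit 3)]]
noncomputable def a_pc : List PcS := [⟨(nat_lit 2), [(nat_lit 19)], []⟩,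
  ⟨(nat_lit 2), [], [[]]⟩,
  ⟨(nat_lit 2), [], [[],
  []]⟩,
  ⟨(nat_lit 2), [], [[],
  [],
  []]⟩,
  ⟨(nat_lit 2), [], [[],
  [],
  [],
  []]⟩,
  ⟨(nat_lit 2), [(nat_lit 9)], [[],
  [],
  [],
  [],
  [(nat_lit 9)]]⟩,
  ⟨(nat_lit 2), [], [[],
  [],
  [],
  [(nat_lit 7)],
  [],
  []]⟩,
  ⟨(nat_lit 2), [(nat_lit 5)], [[],
  [],
  [(nat_lit 5)],
  [],
  [],
  [],
  []]⟩,
  ⟨(nat_lit 2), [], [[],
  [(nat_lit 3)],
  [],
  [],
  [],
  [],
  [],
  []]⟩,
  ⟨(nat_lit 2), [], [[(nat_lit 1)],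
  [],
  [],
  [],
  [],
  [],
  [],
  [],
  []]⟩,
  ⟨(nat_lit 2), [], [[],
  [],
  [],
  [],
  [],
  [],
  [],
  [],
  [],
  []]⟩]
noncomputable def a_hs : List (List Nat) := [[(nat_lit 21), (nat_lit 3), (nat_lit 52), (nat_lit 5), (nat_lit 3), (nat_lit 5), (nat_lit 51), (nat_lit 59), (nat_lit 13), (nat_lit 21), (nat_lit 19), (nat_lit 5), (nat_lit 61)],
  [(nat_lit 52), (nat_lit 3), (nat_lit 47), (nat_lit 3), (nat_lit 39), (nat_lit 30), (nat_lit 7), (nat_lit 32), (nat_lit 50), (nat_lit 43), (nat_lit 59), (nat_lit 22), (nat_lit 61)],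
  [(nat_lit 21), (nat_lit 3), (nat_lit 52), (nat_lit 5), (nat_lit 3), (nat_lit 1), (nat_lit 5), (nat_lit 31), (nat_lit 40), (nat_lit 19), (nat_lit 44), (nat_lit 22), (nat_lit 23), (nat_lit 61)],
  [(nat_lit 39), (nat_lit 3), (nat_lit 43), (nat_lit 3), (nat_lit 1), (nat_lit 43), (nat_lit 13), (nat_lit 51), (nat_lit 59), (nat_lit 19), (nat_lit 47), (nat_lit 19), (nat_lit 61)],
  [(nat_lit 39), (nat_lit 3), (nat_lit 43), (nat_lit 3), (nat_lit 30), (nat_lit 25), (nat_lit 22), (nat_lit 43), (nat_lit 15), (nat_lit 47), (nat_lit 19), (nat_lit 61)],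
  [(nat_lit 9), (nat_lit 31), (nat_lit 11), (nat_lit 27), (nat_lit 53), (nat_lit 22)],
  [(nat_lit 21), (nat_lit 3), (nat_lit 52), (nat_lit 5), (nat_lit 3), (nat_lit 23), (nat_lit 32), (nat_lit 48), (nat_lit 28), (nat_lit 23), (nat_lit 53), (nat_lit 21), (nat_lit 61)],
  [(nat_lit 59), (nat_lit 31), (nat_lit 53), (nat_lit 17), (nat_lit 28), (nat_lit 15)],
  [(nat_lit 39), (nat_lit 3), (nat_lit 43), (nat_lit 3), (nat_lit 1), (nat_lit 9), (nat_lit 11), (nat_lit 59), (nat_lit 30), (nat_lit 45), (nat_lit 43), (nat_lit 9), (nat_lit 61)],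
  [(nat_lit 37), (nat_lit 49), (nat_lit 42), (nat_lit 59), (nat_lit 19), (nat_lit 44), (nat_lit 9)]]
noncomputable def a_u_N_0 : Net := (Net.cons (nat_lit 1) (nat_lit 0x145055444015001005000) (Net.cons (nat_lit 2) (nat_lit 0x12112230300030032000) (Net.cons (nat_lit 4) (nat_lit 0x208020e0a02000000) (Net.cons (nat_lit 8) (nat_lit 0x100097001200030000) (Net.cons (nat_lit 16) (nat_lit 0x2afd0000c810) (Net.cons (nat_lit 32) (nat_lit 47103) (Net.cons (nat_lit 64) (nat_lit 262143) (Net.cons (nat_lit 32) (nat_lit 601915375) (Net.cons (nat_lit 16) (nat_lit 0x7fc00000c810) (Net.cons (nat_lit 8) (nat_lit 0x910018003d00730078) (Net.cons (nat_lit 4) (nat_lit 0x8080803010b0e020a0c) (Net.cons (nat_lit 2) (nat_lit 0x103010220320130320) (Net.cons (nat_lit 1) (nat_lit 0x15055555444001011045) Net.nil)))))))))))))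
noncomputable def a_u_N_1 : Net := (Net.cons (nat_lit 1) (nat_lit 0x54555000045140001000) (Net.cons (nat_lit 2) (nat_lit 0x1220200133023000221) (Net.cons (nat_lit 4) (nat_lit 0xa00010e060a0a000802) (Net.cons (nat_lit 8) (nat_lit 0x140080000000000000) (Net.cons (nat_lit 16) (nat_lit 0xac0c0000a7dc) (Net.cons (nat_lit 32) (nat_lit 41480) (Net.cons (nat_lit 64) (nat_lit 42972) (Net.cons (nat_lit 32) (nat_lit 1478493508) (Net.cons (nat_lit 16) (nat_lit 0x3000047db0000a7df) (Net.cons (nat_lit 8) (nat_lit 0xe800fd003f00640080) (Net.cons (nat_lit 4) (nat_lit 0x40801090d080c000a02) (Net.cons (nat_lit 2) (nat_lit 0x31213012110310300221) (Net.cons (nat_lit 1) (nat_lit 0x101000555510415541001) Net.nil)))))))))))))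
noncomputable def a_u_N_2 : Net := (Net.cons (nat_lit 1) (nat_lit 0x10040040411054001500) (Net.cons (nat_lit 2) (nat_lit 0x22031221330121022000) (Net.cons (nat_lit 4) (nat_lit 0xd040a0b030000010000) (Net.cons (nat_lit 8) (nat_lit 0x200008002300000000) (Net.cons (nat_lit 16) (nat_lit 0xbf0c00000424) (Net.cons (nat_lit 32) (nat_lit 1032) (Net.cons (nat_lit 64) (nat_lit 197676) (Net.cons (nat_lit 32) (nat_lit 4223664140) (Net.cons (nat_lit 16) (nat_lit 0x732d00000424) (Net.cons (nat_lit 8) (nat_lit 0xa5009e003100440058) (Net.cons (nat_lit 4) (nat_lit 0x40b060c040f0f010200) (Net.cons (nat_lit 2) (nat_lit 0x22112112330212023010) (Net.cons (nat_lit 1) (nat_lit 0x5515515144501401501) Net.nil)))))))))))))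
noncomputable def a_u_N_3 : Net := (Net.cons (nat_lit 1) (nat_lit 0x401150041100100010) (Net.cons (nat_lit 2) (nat_lit 0x2323033322123033200) (Net.cons (nat_lit 4) (nat_lit 0x30d00060007010a0e00) (Net.cons (nat_lit 8) (nat_lit 0x97002f008000030000) (Net.cons (nat_lit 16) (nat_lit 0xb4000000b778) (Net.cons (nat_lit 32) (nat_lit 40960) (Net.cons (nat_lit 64) (nat_lit 46968) (Net.cons (nat_lit 32) (nat_lit 1208161280) (Net.cons (nat_lit 16) (nat_lit 0x30000b7840000b7fc) (Net.cons (nat_lit 8) (nat_lit 0xb700d3007c00230078) (Net.cons (nat_lit 4) (nat_lit 0xf020c0504030e09010c) (Net.cons (nat_lit 2) (nat_lit 0x1313033311213033100) (Net.cons (nat_lit 1) (nat_lit 0x155154405514455455545) Net.nil)))))))))))))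
noncomputable def a_u_N_4 : Net := (Net.cons (nat_lit 1) (nat_lit 0x51145414144000411000) (Net.cons (nat_lit 2) (nat_lit 0x12033011221000100021) (Net.cons (nat_lit 4) (nat_lit 0x90800050601020000) (Net.cons (nat_lit 8) (nat_lit 0x500047000000020000) (Net.cons (nat_lit 16) (nat_lit 0x24420000edc0) (Net.cons (nat_lit 32) (nat_lit 79615) (Net.cons (nat_lit 64) (nat_lit 262143) (Net.cons (nat_lit 32) (nat_lit 304077375) (Net.cons (nat_lit 16) (nat_lit 0x20000a8100000ede1) (Net.cons (nat_lit 8) (nat_lit 0x42005b00c000c00088) (Net.cons (nat_lit 4) (nat_lit 0x90d0403090e04020a08) (Net.cons (nat_lit 2) (nat_lit 0x21233022112100201131) (Net.cons (nat_lit 1) (nat_lit 0x104410141411555151001) Net.nil)))))))))))))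
noncomputable def a_u_N_5 : Net := (Net.cons (nat_lit 1) (nat_lit 0x55055454045001005000) (Net.cons (nat_lit 2) (nat_lit 0x10112010330230030000) (Net.cons (nat_lit 4) (nat_lit 0xa080a0e0a02000800) (Net.cons (nat_lit 8) (nat_lit 0x900095009200030000) (Net.cons (nat_lit 16) (nat_lit 0xa27d00004890) (Net.cons (nat_lit 32) (nat_lit 47103) (Net.cons (nat_lit 64) (nat_lit 262143) (Net.cons (nat_lit 32) (nat_lit 2741043055) (Net.cons (nat_lit 16) (nat_lit 0x7f4800004890) (Net.cons (nat_lit 8) (nat_lit 0x110012003d00f30058) (Net.cons (nat_lit 4) (nat_lit 0x8080003090b0e02080c) (Net.cons (nat_lit 2) (nat_lit 0x2103230210120130100) (Net.cons (nat_lit 1) (nat_lit 0x105055545414001011044) Net.nil)))))))))))))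
noncomputable def a_u_N_6 : Net := (Net.cons (nat_lit 1) (nat_lit 0x45000514000440400000) (Net.cons (nat_lit 2) (nat_lit 0x23221313103113302021) (Net.cons (nat_lit 4) (nat_lit 0x101000c030200000002) (Net.cons (nat_lit 8) (nat_lit 0x10002f000100030003) (Net.cons (nat_lit 16) (nat_lit 0x20000cd0100000cfc) (Net.cons (nat_lit 32) (nat_lit 183040) (Net.cons (nat_lit 64) (nat_lit 249852) (Net.cons (nat_lit 32) (nat_lit 4026648320) (Net.cons (nat_lit 16) (nat_lit 0x10000ce3e00000ffc) (Net.cons (nat_lit 8) (nat_lit 0x20001f0002000300d3) (Net.cons (nat_lit 4) (nat_lit 0x206000c030100080002) (Net.cons (nat_lit 2) (nat_lit 0x13112323233223302221) (Net.cons (nat_lit 1) (nat_lit 0x110555041555115141011) Net.nil)))))))))))))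
noncomputable def a_u_N_7 : Net := (Net.cons (nat_lit 1) (nat_lit 0x115145441510154411000) (Net.cons (nat_lit 2) (nat_lit 0x2302233310220022203) (Net.cons (nat_lit 4) (nat_lit 0xc0704080302090001) (Net.cons (nat_lit 8) (nat_lit 0xc90013001800030000) (Net.cons (nat_lit 16) (nat_lit 0x10000481a0000fe04) (Net.cons (nat_lit 32) (nat_lit 72703) (Net.cons (nat_lit 64) (nat_lit 262143) (Net.cons (nat_lit 32) (nat_lit 23774715) (Net.cons (nat_lit 16) (nat_lit 0x2000036c10000fe94) (Net.cons (nat_lit 8) (nat_lit 0x1100e700ed00450022) (Net.cons (nat_lit 4) (nat_lit 0x8030f0106080d0f0a03) (Net.cons (nat_lit 2) (nat_lit 0x11311333303022222303) (Net.cons (nat_lit 1) (nat_lit 0x155400004454001411000) Net.nil)))))))))))))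
noncomputable def a_u_N_8 : Net := (Net.cons (nat_lit 1) (nat_lit 0x40415450141400111000) (Net.cons (nat_lit 2) (nat_lit 0x2102133323223032200) (Net.cons (nat_lit 4) (nat_lit 0x3070506010b09090200) (Net.cons (nat_lit 8) (nat_lit 0x87002f00c100030000) (Net.cons (nat_lit 16) (nat_lit 0xa4200000b778) (Net.cons (nat_lit 32) (nat_lit 40960) (Net.cons (nat_lit 64) (nat_lit 46968) (Net.cons (nat_lit 32) (nat_lit 1208157216) (Net.cons (nat_lit 16) (nat_lit 0x30000b7e80000b7fc) (Net.cons (nat_lit 8) (nat_lit 0xb7005b007c00330070) (Net.cons (nat_lit 4) (nat_lit 0xf02040f08020f0a0a00) (Net.cons (nat_lit 2) (nat_lit 0x1311023320210233210) (Net.cons (nat_lit 1) (nat_lit 0x5154141044454451001) Net.nil)))))))))))))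
noncomputable def a_u_N_9 : Net := (Net.cons (nat_lit 1) (nat_lit 0x115500010040400004400) (Net.cons (nat_lit 2) (nat_lit 0x23331231320323001021) (Net.cons (nat_lit 4) (nat_lit 0xa090500000805000002) (Net.cons (nat_lit 8) (nat_lit 0xf10039006300000000) (Net.cons (nat_lit 16) (nat_lit 0x7c4000005c3c) (Net.cons (nat_lit 32) (nat_lit 44032) (Net.cons (nat_lit 64) (nat_lit 64572) (Net.cons (nat_lit 32) (nat_lit 2747330560) (Net.cons (nat_lit 16) (nat_lit 0x30000bc1b00005c3f) (Net.cons (nat_lit 8) (nat_lit 0xfe00d7009c00cc0008) (Net.cons (nat_lit 4) (nat_lit 0x506040e010301000102) (Net.cons (nat_lit 2) (nat_lit 0x13231031132201001021) (Net.cons (nat_lit 1) (nat_lit 0x40041141514144144400) Net.nil)))))))))))))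
noncomputable def a_u_N : List Net := [a_u_N_0, a_u_N_1, a_u_N_2, a_u_N_3, a_u_N_4, a_u_N_5, a_u_N_6, a_u_N_7, a_u_N_8, a_u_N_9]
noncomputable def a_u_pt : BT Nat := (BT.leaf (nat_lit 0xdb6b86b25acfa6ea0ba0a9fb93b93a92b86d86c86b85f7ae7ad7ac7a07017006ff6f86f766d66c66b6646635e35e25e15e05dc5db56f56e56d56c5685675015004fe4fd4a74a64a44a345044f44e4084074063ca3c939839736c3462b92b82b72b62a229d29929529026313b0f30ce08c06a04201b01600e00b001000))
noncomputable def a_u_pi : Nat → Nat := BT.record a_u_pt (nat_lit 10) (nat_lit 1023) (nat_lit 12) (nat_lit 4095)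
noncomputable def a_u_t0 : BT Nat := (BT.leaf (nat_lit 0x28d09f3a6cc972a4c88f1a2c4870a0c07ef9ebc76e9cb86ed9ab466c98b05eb96ac56a94a84e992a446890a03e78e9c3668c982e58a9426488901e3868c16284880e182840608080))
noncomputable def a_u_t1 : BT Nat := (BT.leaf (nat_lit 0xf993671ebe58e5c3664958b476ad4af5d3662696d64ca411e23a45223157f00ec3824e1142cb629230dcbb3a069e4f9c9e8a1467922a50c081106182090a2060a043858d1e1c001))
noncomputable def a_u_t2 : BT Nat := (BT.leaf (nat_lit 0xc9f386df3d76e1cb26cc52b558a55ae5f3269d86d25494521d44411e29280fd34b845209334f23152eccc37a2596ce9e7a823429d828549081106182090a2060a043858d1e1c001))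
noncomputable def a_u_t3 : BT Nat := (BT.leaf (nat_lit 0x20c28d14b986e68b2d793e71467428922a851c7444d39e967542a8698e2f609242032d0fb572c8dae7aedf2c52e1b314b295cc9b25fc475003821e3868b182828822184840640001))
noncomputable def a_u_t4 : BT Nat := (BT.leaf (nat_lit 0x20c28d14b986e68b2d793e71467428922a851c7444d39e967542a8698e2f609242032d0fb572c8dae7aedf2c52e1b314b295cc9b25fc475003821e3868b182828822184840640001))
noncomputable def a_u_t5 : BT Nat := (BT.leaf (nat_lit 0x9942a4a3c8952e1cc9afe0429311d458cd9917710563b34f94ab2cf579c6294c396865a9f408d71b4c78ea750890b048dd52d78ce7d0a338890101030c160c48f0e3428e1408001))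
noncomputable def a_u_t6 : BT Nat := (BT.leaf (nat_lit 0x9942a4a3c8952e1cc9afe0429311d458cd9917710563b34f94ab2cf579c6294c396865a9f408d71b4c78ea750890b048dd52d78ce7d0a338890101030c160c48f0e3428e1408001))
noncomputable def a_u_t7 : BT Nat := (BT.leaf (nat_lit 0x264d95268512b3e7132868b3c245cc336e7ccc460b4d9c7ea0ea680a8f3b4481d2446c90b64ad13ac56bd4ae7cc5ab87319ec185165c7910c10710103090a0c60f203458e1444001))
noncomputable def a_u_t8 : BT Nat := (BT.leaf (nat_lit 0x264d95268512b3e7132868b3c245cc336e7ccc460b4d9c7ea0ea680a8f3b4481d2446c90b64ad13ac56bd4ae7cc5ab87319ec185165c7910c10710103090a0c60f203458e1444001))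
noncomputable def a_u_t9 : BT Nat := (BT.leaf (nat_lit 0x1c397cf4d9c507ccb048851a0549cf263b3e72e268a8516a55bb36848c485af17942d0cd4b8500bc78aea3449505fcc9aa64b14aadb2c76c810706347090a2060a20105861e44001))
noncomputable def a_u_t10 : BT Nat := (BT.leaf (nat_lit 0x1c397cf4d9c507ccb048851a0549cf263b3e72e268a8516a55bb36848c485af17942d0cd4b8500bc78aea3449505fcc9aa64b14aadb2c76c810706347090a2060a20105861e44001))
noncomputable def a_u_t11 : BT Nat := (BT.leaf (nat_lit 0xc9f3671f3d58e5c326c958b576a55af5d3269d96d24ca4121d44451e3157f0134384520932cf22922edcc33a2696cf9c9e823427922854c0811061820c162048a043828d1e1c080))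
noncomputable def a_u_t12 : BT Nat := (BT.leaf (nat_lit 0xf99386debe76e1cb664c52b458ad4ae5f3662686d6549451e23a412229280fcecb824e11434b631530ccbb7a059e4e9e7a8a1469d82a5090811061820c162048a043828d1e1c080))
noncomputable def a_u_t13 : BT Nat := (BT.leaf (nat_lit 0x223a7f01e2d2ccdb982e54951344ca4e9e7534d4f411209284c9f948d831386e61e50a552b76f522564e5b3868b1f2f5d0dac88f2e34185143821e182051228588223860d0640001))
noncomputable def a_u_t14 : BT Nat := (BT.leaf (nat_lit 0x223a7f01e2d2ccdb982e54951344ca4e9e7534d4f411209284c9f948d831386e61e50a552b76f522564e5b3868b1f2f5d0dac88f2e34185143821e182051228588223860d0640001))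
noncomputable def a_u_t15 : BT Nat := (BT.leaf (nat_lit 0x1ebe70e4f994870da854793a660851a241468342a767ce5c51e2d5e4cb4b6ecda922f20c478ce8d4384fe0c0991624994c66ab52956326cec10706386890a2060a20185841e44080))
noncomputable def a_u_t16 : BT Nat := (BT.leaf (nat_lit 0x1f3d72e0c9f606ce2a509cf1d488d0a045428b5249a74f5e4d6bc5c50d4366dda15311cbc88b10b4b830213f9b19d4a929662956c5db664b010706386890a2060a20185841e44080))
noncomputable def a_u_t17 : BT Nat := (BT.leaf (nat_lit 0x26cc932a8d0253a7942668b3c2a5cc336e64fc448b4e1b7ea8ea680a0f2c4481d3046d90b24ad13bb56bd4ae7ac5ab97119f4185161c88f2c1071e103090a28608203458e0644001))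
noncomputable def a_u_t18 : BT Nat := (BT.leaf (nat_lit 0x26cc932a8d0253a7942668b3c2a5cc336e64fc448b4e1b7ea8ea680a0f2c4481d3046d90b24ad13bb56bd4ae7ac5ab97119f4185161c88f2c1071e103090a28608203458e0644001))
noncomputable def a_u_t19 : BT Nat := (BT.leaf (nat_lit 0x21cb8f20a92a0509ce9ef169aa2dd9982e91846325942a846d39e827133d468629f44e10396ac4ebe5ead72958d12b26d11dc07eea6ca9330382103868c160c48f22182841440080))
noncomputable def a_u_t20 : BT Nat := (BT.leaf (nat_lit 0x21cb8f20a92a0509ce9ef169aa2dd9982e91846325942a846d39e827133d468629f44e10396ac4ebe5ead72958d12b26d11dc07eea6ca9330382103868c160c48f22182841440080))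
noncomputable def a_u_TT : BT (BT Nat) := (BT.node (nat_lit 10) (BT.node (nat_lit 5) (BT.node (nat_lit 2) (BT.node (nat_lit 1) (BT.leaf a_u_t0) (BT.leaf a_u_t1)) (BT.node (nat_lit 3) (BT.leaf a_u_t2) (BT.node (nat_lit 4) (BT.leaf a_u_t3) (BT.leaf a_u_t4)))) (BT.node (nat_lit 7) (BT.node (nat_lit 6) (BT.leaf a_u_t5) (BT.leaf a_u_t6)) (BT.node (nat_lit 8) (BT.leaf a_u_t7) (BT.node (nat_lit 9) (BT.leaf a_u_t8) (BT.leaf a_u_t9))))) (BT.node (nat_lit 15) (BT.node (nat_lit 12) (BT.node (nat_lit 11) (BT.leaf a_u_t10) (BT.leaf a_u_t11)) (BT.node (nat_lit 13) (BT.leaf a_u_t12) (BT.node (nat_lit 14) (BT.leaf a_u_t13) (BT.leaf a_u_t14)))) (BT.node (nat_lit 18) (BT.node (nat_lit 16) (BT.leaf a_u_t15) (BT.node (nat_lit 17) (BT.leaf a_u_t16) (BT.leaf a_u_t17))) (BT.node (nat_lit 19) (BT.leaf a_u_t18) (BT.node (nat_lit 20) (BT.leaf a_u_t19) (BT.leaf a_u_t20))))))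
noncomputable def a_c : List Lvl := [⟨(nat_lit 2), [[(nat_lit 9)],
  [(nat_lit 13)]], (nat_lit 1)⟩,
  ⟨(nat_lit 0), [[(nat_lit 15)]], (nat_lit 1)⟩,
  ⟨(nat_lit 3), [[(nat_lit 13), (nat_lit 11)],
  [(nat_lit 13), (nat_lit 3)]], (nat_lit 1)⟩,
  ⟨(nat_lit 4), [[(nat_lit 17), (nat_lit 7)],
  [(nat_lit 15), (nat_lit 1), (nat_lit 7)]], (nat_lit 1)⟩,
  ⟨(nat_lit 5), [[(nat_lit 5), (nat_lit 20), (nat_lit 7)],
  [(nat_lit 11), (nat_lit 15), (nat_lit 10), (nat_lit 1)]], (nat_lit 1)⟩,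
  ⟨(nat_lit 18), [[(nat_lit 5), (nat_lit 5)],
  [(nat_lit 7), (nat_lit 17), (nat_lit 3), (nat_lit 13), (nat_lit 1), (nat_lit 9), (nat_lit 6)]], (nat_lit 1)⟩]
noncomputable def y_du : List Du := [⟨[(nat_lit 19)], (nat_lit 10), (nat_lit 1), [], [[],
  [],
  [],
  [],
  [],
  [],
  [],
  [],
  []]⟩,
  ⟨[(nat_lit 17)], (nat_lit 10), (nat_lit 1), [], [[],
  [],
  [],
  [],
  [],
  [],
  [],
  []]⟩,
  ⟨[(nat_lit 15)], (nat_lit 10), (nat_lit 1), [], [[],
  [],
  [],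
  [],
  [],
  [],
  []]⟩,
  ⟨[(nat_lit 13)], (nat_lit 10), (nat_lit 1), [], [[],
  [],
  [],
  [],
  [],
  []]⟩,
  ⟨[(nat_lit 11)], (nat_lit 10), (nat_lit 1), [], [[],
  [],
  [],
  [],
  []]⟩,
  ⟨[(nat_lit 9)], (nat_lit 10), (nat_lit 1), [], [[],
  [],
  [],
  []]⟩,
  ⟨[(nat_lit 7)], (nat_lit 10), (nat_lit 1), [], [[],
  [],
  []]⟩,
  ⟨[(nat_lit 5)], (nat_lit 10), (nat_lit 1), [], [[],
  []]⟩,
  ⟨[(nat_lit 3)], (nat_lit 10), (nat_lit 1), [], [[]]⟩,
  ⟨[(nat_lit 1)], (nat_lit 10), (nat_lit 1), [], []⟩]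
noncomputable def a_W : List (List Nat) := [[(nat_lit 3), (nat_lit 5), (nat_lit 1), (nat_lit 3), (nat_lit 5), (nat_lit 27), (nat_lit 53), (nat_lit 30), (nat_lit 32), (nat_lit 13)],
  [(nat_lit 3), (nat_lit 5), (nat_lit 1), (nat_lit 3), (nat_lit 19), (nat_lit 55), (nat_lit 51), (nat_lit 31), (nat_lit 15)],
  [(nat_lit 3), (nat_lit 5), (nat_lit 1), (nat_lit 3), (nat_lit 7), (nat_lit 48), (nat_lit 23), (nat_lit 31), (nat_lit 22), (nat_lit 17)],
  [(nat_lit 3), (nat_lit 5), (nat_lit 1), (nat_lit 3), (nat_lit 15), (nat_lit 38), (nat_lit 56), (nat_lit 32), (nat_lit 11), (nat_lit 44), (nat_lit 7)],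
  [(nat_lit 3), (nat_lit 5), (nat_lit 1), (nat_lit 3), (nat_lit 29), (nat_lit 11), (nat_lit 21), (nat_lit 53), (nat_lit 29)],
  [(nat_lit 3), (nat_lit 5), (nat_lit 1), (nat_lit 3), (nat_lit 30), (nat_lit 27), (nat_lit 31), (nat_lit 53), (nat_lit 21)]]
noncomputable def r_As : List (List (List Nat)) := [[[(nat_lit 1), (nat_lit 1), (nat_lit 0), (nat_lit 1), (nat_lit 0), (nat_lit 1), (nat_lit 1), (nat_lit 1), (nat_lit 1), (nat_lit 0)], [(nat_lit 0), (nat_lit 0), (nat_lit 1), (nat_lit 1), (nat_lit 0), (nat_lit 1), (nat_lit 1), (nat_lit 1), (nat_lit 0), (nat_lit 1)], [(nat_lit 1), (nat_lit 1), (nat_lit 1), (nat_lit 1), (nat_lit 0), (nat_lit 1), (nat_lit 1), (nat_lit 0), (nat_lit 1), (nat_lit 1)], [(nat_lit 0), (nat_lit 1), (nat_lit 1), (nat_lit 0), (nat_lit 0), (nat_lit 1), (nat_lit 0), (nat_lit 1), (nat_lit 1), (nat_lit 1)], [(nat_lit 1), (nat_lit 0), (nat_lit 0), (nat_lit 0), (nat_lit 1), (nat_lit 0), (nat_lit 1),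 (nat_lit 1), (nat_lit 1), (nat_lit 1)], [(nat_lit 0), (nat_lit 0), (nat_lit 0), (nat_lit 0), (nat_lit 0), (nat_lit 1), (nat_lit 0), (nat_lit 0), (nat_lit 0), (nat_lit 0)], [(nat_lit 1), (nat_lit 0), (nat_lit 0), (nat_lit 0), (nat_lit 0), (nat_lit 0), (nat_lit 0), (nat_lit 1), (nat_lit 1), (nat_lit 1)], [(nat_lit 0), (nat_lit 0), (nat_lit 0), (nat_lit 0), (nat_lit 0), (nat_lit 0), (nat_lit 1), (nat_lit 1), (nat_lit 1), (nat_lit 0)], [(nat_lit 1), (nat_lit 0), (nat_lit 0), (nat_lit 0), (nat_lit 0), (nat_lit 0), (nat_lit 1), (nat_lit 1), (nat_lit 0), (nat_lit 1)], [(nat_lit 0), (nat_lit 1), (nat_lit 0), (nat_lit 1), (nat_lit 0), (nat_lit 1), (nat_lit 0), (nat_lit 1), (nat_lit 0), (nat_lit 1)]],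
  [[(nat_lit 1), (nat_lit 0), (nat_lit 0), (nat_lit 0), (nat_lit 0), (nat_lit 1), (nat_lit 1), (nat_lit 1), (nat_lit 1), (nat_lit 0)], [(nat_lit 0), (nat_lit 1), (nat_lit 0), (nat_lit 1), (nat_lit 1), (nat_lit 0), (nat_lit 0), (nat_lit 0), (nat_lit 0), (nat_lit 1)], [(nat_lit 0), (nat_lit 0), (nat_lit 1), (nat_lit 1), (nat_lit 1), (nat_lit 0), (nat_lit 0), (nat_lit 0), (nat_lit 0), (nat_lit 1)], [(nat_lit 0), (nat_lit 1), (nat_lit 1), (nat_lit 1), (nat_lit 0), (nat_lit 0), (nat_lit 0), (nat_lit 0), (nat_lit 0), (nat_lit 1)], [(nat_lit 0), (nat_lit 1), (nat_lit 1), (nat_lit 0), (nat_lit 1), (nat_lit 0), (nat_lit 0), (nat_lit 0), (nat_lit 0), (nat_lit 1)], [(nat_lit 0), (nat_lit 0), (nat_lit 0), (nat_lit 0), (nat_lit 0), (nat_lit 1), (nat_lit 0), (nat_lit 1), (nat_lit 1), (nat_lit 0)], [(nat_lit 0), (nat_lit 0), (nat_lit 0), (nat_lit 0), (nat_lit 0), (nat_lit 0), (nat_lit 1), (nat_lit 1), (nat_lit 1), (nat_lit 0)],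 [(nat_lit 0), (nat_lit 0), (nat_lit 0), (nat_lit 0), (nat_lit 0), (nat_lit 1), (nat_lit 1), (nat_lit 1), (nat_lit 0), (nat_lit 0)], [(nat_lit 0), (nat_lit 0), (nat_lit 0), (nat_lit 0), (nat_lit 0), (nat_lit 1), (nat_lit 1), (nat_lit 0), (nat_lit 1), (nat_lit 0)], [(nat_lit 0), (nat_lit 0), (nat_lit 0), (nat_lit 0), (nat_lit 0), (nat_lit 0), (nat_lit 0), (nat_lit 0), (nat_lit 0), (nat_lit 1)]],
  [[(nat_lit 0), (nat_lit 0), (nat_lit 1), (nat_lit 1), (nat_lit 0), (nat_lit 0), (nat_lit 0), (nat_lit 1), (nat_lit 0), (nat_lit 0)], [(nat_lit 1), (nat_lit 0), (nat_lit 1), (nat_lit 1), (nat_lit 0), (nat_lit 1), (nat_lit 1), (nat_lit 0), (nat_lit 0), (nat_lit 0)], [(nat_lit 1), (nat_lit 1), (nat_lit 1), (nat_lit 0), (nat_lit 0), (nat_lit 1), (nat_lit 1), (nat_lit 0), (nat_lit 0), (nat_lit 1)], [(nat_lit 1), (nat_lit 1), (nat_lit 1), (nat_lit 0), (nat_lit 1), (nat_lit 0), (nat_lit 0), (nat_lit 1), (nat_lit 1), (nat_lit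 0)], [(nat_lit 1), (nat_lit 1), (nat_lit 1), (nat_lit 1), (nat_lit 0), (nat_lit 0), (nat_lit 0), (nat_lit 1), (nat_lit 1), (nat_lit 0)], [(nat_lit 1), (nat_lit 1), (nat_lit 1), (nat_lit 1), (nat_lit 0), (nat_lit 0), (nat_lit 1), (nat_lit 0), (nat_lit 0), (nat_lit 0)], [(nat_lit 1), (nat_lit 0), (nat_lit 0), (nat_lit 0), (nat_lit 1), (nat_lit 1), (nat_lit 0), (nat_lit 0), (nat_lit 1), (nat_lit 1)], [(nat_lit 1), (nat_lit 0), (nat_lit 0), (nat_lit 0), (nat_lit 1), (nat_lit 1), (nat_lit 1), (nat_lit 1), (nat_lit 1), (nat_lit 1)], [(nat_lit 0), (nat_lit 0), (nat_lit 0), (nat_lit 0), (nat_lit 1), (nat_lit 1), (nat_lit 1), (nat_lit 1), (nat_lit 0), (nat_lit 0)], [(nat_lit 0), (nat_lit 0), (nat_lit 1), (nat_lit 1), (nat_lit 1), (nat_lit 1), (nat_lit 1), (nat_lit 1), (nat_lit 1), (nat_lit 0)]],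
  [[(nat_lit 0), (nat_lit 0), (nat_lit 0), (nat_lit 1), (nat_lit 1), (nat_lit 0), (nat_lit 1), (nat_lit 1), (nat_lit 1), (nat_lit 0)], [(nat_lit 0), (nat_lit 1), (nat_lit 0), (nat_lit 1), (nat_lit 1), (nat_lit 0), (nat_lit 0), (nat_lit 0), (nat_lit 0), (nat_lit 1)], [(nat_lit 0), (nat_lit 0), (nat_lit 1), (nat_lit 1), (nat_lit 1), (nat_lit 1), (nat_lit 1), (nat_lit 0), (nat_lit 0), (nat_lit 1)], [(nat_lit 1), (nat_lit 0), (nat_lit 1), (nat_lit 0), (nat_lit 1), (nat_lit 1), (nat_lit 0), (nat_lit 1), (nat_lit 0), (nat_lit 1)], [(nat_lit 1), (nat_lit 0), (nat_lit 1), (nat_lit 0), (nat_lit 1), (nat_lit 0), (nat_lit 1), (nat_lit 1), (nat_lit 0), (nat_lit 0)], [(nat_lit 1), (nat_lit 0), (nat_lit 0), (nat_lit 0), (nat_lit 0), (nat_lit 1), (nat_lit 1), (nat_lit 1), (nat_lit 1), (nat_lit 1)], [(nat_lit 1), (nat_lit 0), (nat_lit 0), (nat_lit 0), (nat_lit 0), (nat_lit 0), (nat_lit 0), (nat_lit 1), (nat_lit 1), (nat_lit 1)],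 [(nat_lit 0), (nat_lit 0), (nat_lit 0), (nat_lit 0), (nat_lit 0), (nat_lit 1), (nat_lit 1), (nat_lit 1), (nat_lit 0), (nat_lit 0)], [(nat_lit 0), (nat_lit 0), (nat_lit 0), (nat_lit 0), (nat_lit 0), (nat_lit 0), (nat_lit 0), (nat_lit 0), (nat_lit 1), (nat_lit 0)], [(nat_lit 0), (nat_lit 0), (nat_lit 0), (nat_lit 1), (nat_lit 1), (nat_lit 1), (nat_lit 1), (nat_lit 0), (nat_lit 0), (nat_lit 0)]],
  [[(nat_lit 1), (nat_lit 1), (nat_lit 0), (nat_lit 1), (nat_lit 0), (nat_lit 1), (nat_lit 1), (nat_lit 1), (nat_lit 1), (nat_lit 0)], [(nat_lit 0), (nat_lit 1), (nat_lit 0), (nat_lit 1), (nat_lit 1), (nat_lit 0), (nat_lit 0), (nat_lit 0), (nat_lit 0), (nat_lit 1)], [(nat_lit 0), (nat_lit 1), (nat_lit 0), (nat_lit 0), (nat_lit 0), (nat_lit 0), (nat_lit 0), (nat_lit 0), (nat_lit 0), (nat_lit 1)], [(nat_lit 0), (nat_lit 1), (nat_lit 1), (nat_lit 1), (nat_lit 0), (nat_lit 0), (nat_lit 0), (nat_lit 0), (nat_lit 0), (nat_lit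 1)], [(nat_lit 0), (nat_lit 0), (nat_lit 0), (nat_lit 1), (nat_lit 0), (nat_lit 0), (nat_lit 0), (nat_lit 0), (nat_lit 0), (nat_lit 1)], [(nat_lit 1), (nat_lit 1), (nat_lit 1), (nat_lit 1), (nat_lit 0), (nat_lit 0), (nat_lit 0), (nat_lit 0), (nat_lit 1), (nat_lit 0)], [(nat_lit 1), (nat_lit 1), (nat_lit 1), (nat_lit 0), (nat_lit 1), (nat_lit 1), (nat_lit 1), (nat_lit 0), (nat_lit 1), (nat_lit 1)], [(nat_lit 1), (nat_lit 1), (nat_lit 0), (nat_lit 1), (nat_lit 1), (nat_lit 0), (nat_lit 1), (nat_lit 0), (nat_lit 0), (nat_lit 0)], [(nat_lit 1), (nat_lit 0), (nat_lit 1), (nat_lit 1), (nat_lit 1), (nat_lit 0), (nat_lit 1), (nat_lit 1), (nat_lit 1), (nat_lit 1)], [(nat_lit 0), (nat_lit 1), (nat_lit 1), (nat_lit 1), (nat_lit 1), (nat_lit 0), (nat_lit 0), (nat_lit 0), (nat_lit 0), (nat_lit 1)]],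
  [[(nat_lit 0), (nat_lit 0), (nat_lit 1), (nat_lit 1), (nat_lit 0), (nat_lit 0), (nat_lit 0), (nat_lit 1), (nat_lit 0), (nat_lit 0)], [(nat_lit 0), (nat_lit 0), (nat_lit 0), (nat_lit 0), (nat_lit 0), (nat_lit 1), (nat_lit 1), (nat_lit 1), (nat_lit 0), (nat_lit 0)], [(nat_lit 0), (nat_lit 0), (nat_lit 0), (nat_lit 0), (nat_lit 0), (nat_lit 0), (nat_lit 0), (nat_lit 0), (nat_lit 1), (nat_lit 1)], [(nat_lit 1), (nat_lit 1), (nat_lit 0), (nat_lit 1), (nat_lit 1), (nat_lit 0), (nat_lit 0), (nat_lit 0), (nat_lit 1), (nat_lit 0)], [(nat_lit 1), (nat_lit 1), (nat_lit 0), (nat_lit 0), (nat_lit 0), (nat_lit 0), (nat_lit 0), (nat_lit 0), (nat_lit 1), (nat_lit 0)], [(nat_lit 1), (nat_lit 1), (nat_lit 1), (nat_lit 1), (nat_lit 0), (nat_lit 0), (nat_lit 1), (nat_lit 0), (nat_lit 0), (nat_lit 0)], [(nat_lit 1), (nat_lit 1), (nat_lit 1), (nat_lit 0), (nat_lit 1), (nat_lit 0), (nat_lit 1), (nat_lit 0), (nat_lit 0), (nat_lit 1)],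 [(nat_lit 0), (nat_lit 1), (nat_lit 0), (nat_lit 1), (nat_lit 1), (nat_lit 0), (nat_lit 0), (nat_lit 0), (nat_lit 0), (nat_lit 1)], [(nat_lit 0), (nat_lit 0), (nat_lit 1), (nat_lit 1), (nat_lit 1), (nat_lit 1), (nat_lit 1), (nat_lit 0), (nat_lit 0), (nat_lit 0)], [(nat_lit 0), (nat_lit 0), (nat_lit 0), (nat_lit 1), (nat_lit 1), (nat_lit 1), (nat_lit 1), (nat_lit 0), (nat_lit 0), (nat_lit 0)]]]
noncomputable def r_us : List (List (List Nat)) := [[[(nat_lit 1), (nat_lit 5), (nat_lit 9), (nat_lit 13), (nat_lit 17), (nat_lit 21)],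
  [(nat_lit 1), (nat_lit 5), (nat_lit 7), (nat_lit 19)],
  [(nat_lit 3), (nat_lit 5), (nat_lit 7)],
  [(nat_lit 1), (nat_lit 3), (nat_lit 5), (nat_lit 19)],
  [(nat_lit 9), (nat_lit 21)],
  [(nat_lit 1), (nat_lit 3), (nat_lit 5), (nat_lit 7), (nat_lit 11), (nat_lit 19), (nat_lit 21)],
  [(nat_lit 1), (nat_lit 3), (nat_lit 5), (nat_lit 9), (nat_lit 15), (nat_lit 17)],
  [(nat_lit 1), (nat_lit 3), (nat_lit 7), (nat_lit 9), (nat_lit 13), (nat_lit 15), (nat_lit 17), (nat_lit 19), (nat_lit 21)],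
  [(nat_lit 1), (nat_lit 5), (nat_lit 7), (nat_lit 9), (nat_lit 13), (nat_lit 15)],
  [(nat_lit 3), (nat_lit 5), (nat_lit 7), (nat_lit 9), (nat_lit 13), (nat_lit 17), (nat_lit 19), (nat_lit 21)]],
  [[(nat_lit 1), (nat_lit 21)],
  [(nat_lit 3), (nat_lit 7), (nat_lit 9)],
  [(nat_lit 5), (nat_lit 7), (nat_lit 9)],
  [(nat_lit 3), (nat_lit 5), (nat_lit 7)],
  [(nat_lit 3), (nat_lit 5), (nat_lit 9)],
  [(nat_lit 1), (nat_lit 11), (nat_lit 15), (nat_lit 17), (nat_lit 21)],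
  [(nat_lit 1), (nat_lit 13), (nat_lit 15), (nat_lit 17), (nat_lit 21)],
  [(nat_lit 1), (nat_lit 11), (nat_lit 13), (nat_lit 15), (nat_lit 21)],
  [(nat_lit 1), (nat_lit 11), (nat_lit 13), (nat_lit 17)],
  [(nat_lit 3), (nat_lit 5), (nat_lit 7), (nat_lit 9), (nat_lit 19)]],
  [[(nat_lit 3), (nat_lit 5), (nat_lit 7), (nat_lit 9), (nat_lit 11), (nat_lit 13), (nat_lit 15)],
  [(nat_lit 5), (nat_lit 7), (nat_lit 9), (nat_lit 11), (nat_lit 21)],
  [(nat_lit 1), (nat_lit 3), (nat_lit 5), (nat_lit 7), (nat_lit 9), (nat_lit 11), (nat_lit 19)],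
  [(nat_lit 1), (nat_lit 3), (nat_lit 9), (nat_lit 11), (nat_lit 19)],
  [(nat_lit 7), (nat_lit 13), (nat_lit 15), (nat_lit 17), (nat_lit 19)],
  [(nat_lit 3), (nat_lit 5), (nat_lit 13), (nat_lit 15), (nat_lit 17), (nat_lit 19)],
  [(nat_lit 3), (nat_lit 5), (nat_lit 11), (nat_lit 15), (nat_lit 17), (nat_lit 19), (nat_lit 21)],
  [(nat_lit 1), (nat_lit 7), (nat_lit 9), (nat_lit 15), (nat_lit 17), (nat_lit 19), (nat_lit 21)],
  [(nat_lit 7), (nat_lit 9), (nat_lit 13), (nat_lit 15), (nat_lit 19)],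
  [(nat_lit 5), (nat_lit 13), (nat_lit 15)]],
  [[(nat_lit 7), (nat_lit 9), (nat_lit 11), (nat_lit 13), (nat_lit 21)],
  [(nat_lit 3)],
  [(nat_lit 5), (nat_lit 7), (nat_lit 9), (nat_lit 21)],
  [(nat_lit 1), (nat_lit 3), (nat_lit 5), (nat_lit 19)],
  [(nat_lit 1), (nat_lit 3), (nat_lit 5), (nat_lit 7), (nat_lit 9), (nat_lit 19)],
  [(nat_lit 5), (nat_lit 7), (nat_lit 11), (nat_lit 15), (nat_lit 19), (nat_lit 21)],
  [(nat_lit 1), (nat_lit 5), (nat_lit 9), (nat_lit 11), (nat_lit 15), (nat_lit 19), (nat_lit 21)],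
  [(nat_lit 1), (nat_lit 7), (nat_lit 9), (nat_lit 11), (nat_lit 13), (nat_lit 15)],
  [(nat_lit 1), (nat_lit 11), (nat_lit 13), (nat_lit 17)],
  [(nat_lit 3), (nat_lit 5), (nat_lit 7), (nat_lit 11), (nat_lit 13)]],
  [[(nat_lit 1), (nat_lit 11), (nat_lit 13), (nat_lit 15), (nat_lit 17)],
  [(nat_lit 1), (nat_lit 3), (nat_lit 5), (nat_lit 7), (nat_lit 11), (nat_lit 13), (nat_lit 15), (nat_lit 19)],
  [(nat_lit 7), (nat_lit 11), (nat_lit 13), (nat_lit 17), (nat_lit 19)],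
  [(nat_lit 1), (nat_lit 3), (nat_lit 7), (nat_lit 9), (nat_lit 11), (nat_lit 15), (nat_lit 17), (nat_lit 19), (nat_lit 21)],
  [(nat_lit 3), (nat_lit 13), (nat_lit 15), (nat_lit 17), (nat_lit 19)],
  [(nat_lit 1), (nat_lit 13), (nat_lit 21)],
  [(nat_lit 1), (nat_lit 13), (nat_lit 15), (nat_lit 17), (nat_lit 21)],
  [(nat_lit 1), (nat_lit 17)],
  [(nat_lit 1), (nat_lit 11), (nat_lit 13), (nat_lit 17), (nat_lit 21)],
  [(nat_lit 3), (nat_lit 5), (nat_lit 7), (nat_lit 9), (nat_lit 13), (nat_lit 17), (nat_lit 19), (nat_lit 21)]],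
  [[(nat_lit 7), (nat_lit 9), (nat_lit 11), (nat_lit 13)],
  [(nat_lit 7), (nat_lit 9), (nat_lit 11), (nat_lit 13), (nat_lit 15)],
  [(nat_lit 1), (nat_lit 11), (nat_lit 13), (nat_lit 17), (nat_lit 21)],
  [(nat_lit 1), (nat_lit 7), (nat_lit 11), (nat_lit 15), (nat_lit 17), (nat_lit 19)],
  [(nat_lit 7), (nat_lit 13), (nat_lit 15), (nat_lit 17), (nat_lit 19), (nat_lit 21)],
  [(nat_lit 3), (nat_lit 17), (nat_lit 19), (nat_lit 21)],
  [(nat_lit 3), (nat_lit 11), (nat_lit 13), (nat_lit 17), (nat_lit 19), (nat_lit 21)],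
  [(nat_lit 1), (nat_lit 3)],
  [(nat_lit 5), (nat_lit 7), (nat_lit 9)],
  [(nat_lit 5), (nat_lit 13), (nat_lit 15), (nat_lit 21)]]]
noncomputable def r_vs : List (List (List Nat)) := [[[(nat_lit 1)]],
  [[(nat_lit 1)]],
  [[(nat_lit 1)]],
  [[(nat_lit 1)]],
  [[(nat_lit 1)]],
  [[(nat_lit 1)]]]
noncomputable def v_V : List (List Nat) := [[(nat_lit 0x9117c1d17d229bc97afde458491bf472b7), (nat_lit 0x6ee83e2e82dd643685021ba7b6e40b8d48)],
  [(nat_lit 0xbc802bf6012d031f115c640774c7fe4c7e), (nat_lit 0x437fd409fed2fce0eea39bf88b3801b381)],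
  [(nat_lit 0x7e36a236201ba86218382f2344abaf746f), (nat_lit 0x81c95dc9dfe4579de7c7d0dcbb54508b90)],
  [(nat_lit 0x2b9086c57bf5f5b1809ec626a69ec4205a), (nat_lit 0xd46f793a840a0a4e7f6139d959613bdfa5)],
  [(nat_lit 0x458ecb6868d1e8983c8ee2a2eea42e2a1b), (nat_lit 0xba713497972e1767c3711d5d115bd1d5e4)],
  [(nat_lit 0x872005fe2e9979478f05d748674cc8d872), (nat_lit 0x78dffa01d16686b870fa28b798b337278d)],
  [(nat_lit 0xb1d687bc0dec2a23d1439bd155245629aa), (nat_lit 0x4e297843f213d5dc2ebc642eaadba9d655)],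
  [(nat_lit 0xb338c099b520191aead6ae59c2c6b82d7a), (nat_lit 0x4cc73f664adfe6e5152951a63d3947d285)],
  [(nat_lit 0x73967dffbd23f841e135efd69b96e696b2), (nat_lit 0x8c69820042dc07be1eca1029646919694d)],
  [(nat_lit 0xc9cb90e49789ad95606835a8c5f20997bc), (nat_lit 0x36346f1b6876526a9f97ca573a0df66843)]]
noncomputable def v_s : Net := (Net.cons (nat_lit 1) (nat_lit 0x4444041404001111441404041555111004) (Net.cons (nat_lit 2) (nat_lit 0x1021130300021200300030220310011000) (Net.cons (nat_lit 4) (nat_lit 0xc0b0a070004050901000704000a030a00) (Net.cons (nat_lit 8) (nat_lit 0xc6005a001f005500340082000500c1) (Net.cons (nat_lit 16) (nat_lit 0xd1b100002cdc0000002d00000091) (Net.cons (nat_lit 32) (nat_lit 0xc249a640000000000000006c) (Net.cons (nat_lit 128) (nat_lit 255) (Net.cons (nat_lit 64) (nat_lit 0xc99b54692356b315) (Net.cons (nat_lit 32) (nat_lit 0xb15f5c9400000000bedef4e0) (Net.cons (nat_lit 16) (nat_lit 0x562f0000038d0000eae40000049b)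 (Net.cons (nat_lit 8) (nat_lit 0xae001300d800d100050058009b007c) (Net.cons (nat_lit 4) (nat_lit 0xe010c0d080507020b07090f030408050c) (Net.cons (nat_lit 2) (nat_lit 0x3103311130223023133120112123100233) (Net.cons (nat_lit 1) (nat_lit 0x1051040141415040101411114511515114) Net.nil))))))))))))))
noncomputable def v_N_0 : Net := (Net.cons (nat_lit 1) (nat_lit 0x1010405500410110541141541410410010) (Net.cons (nat_lit 2) (nat_lit 0x3013011221020102311022112202130000) (Net.cons (nat_lit 4) (nat_lit 0xe000b030306090a0c0602030202010000) (Net.cons (nat_lit 8) (nat_lit 0xab002b00ae00a600b8005900a10001) (Net.cons (nat_lit 16) (nat_lit 0x29280000180b0000349b00000028) (Net.cons (nat_lit 32) (nat_lit 0x4004d31500000000000000b3) (Net.cons (nat_lit 64) (nat_lit 68) (Net.cons (nat_lit 128) (nat_lit 255) (Net.cons (nat_lit 64) (nat_lit 0xd1ade35319fb3044) (Net.cons (nat_lit 32) (nat_lit 0x5196eb3700000000eb43263b) (Net.cons (nat_lit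 16) (nat_lit 0x3b2a00001c8000002c9b000010a6) (Net.cons (nat_lit 8) (nat_lit 0x3b00ba00fe00ad00f800df00780003) (Net.cons (nat_lit 4) (nat_lit 0x6010b02020e08030c0e0a030b03080908) (Net.cons (nat_lit 2) (nat_lit 0x3013111221020102311022112202130000) (Net.cons (nat_lit 1) (nat_lit 0x1051405500410110501151141510410010) Net.nil)))))))))))))))
noncomputable def v_N_1 : Net := (Net.cons (nat_lit 1) (nat_lit 0x1401410111451010041141405440054000) (Net.cons (nat_lit 2) (nat_lit 0x2022112332022203200131313322130300) (Net.cons (nat_lit 4) (nat_lit 0x9020804080b0d0a0301060e00060000) (Net.cons (nat_lit 8) (nat_lit 0x2900af00d800ea003800a0003a0010) (Net.cons (nat_lit 16) (nat_lit 0x82690000340f00002900000000a2) (Net.cons (nat_lit 32) (nat_lit 0x558e12030000000000000030) (Net.cons (nat_lit 64) (nat_lit 124) (Net.cons (nat_lit 128) (nat_lit 254) (Net.cons (nat_lit 64) (nat_lit 0xd4934d7fa11c1af4) (Net.cons (nat_lit 32) (nat_lit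 0x81ba4900000000009f97bab0) (Net.cons (nat_lit 16) (nat_lit 0xd5fb0000ed8c000079a7000018fa) (Net.cons (nat_lit 8) (nat_lit 0x2e00b100d9006d00bd00a70037001a) (Net.cons (nat_lit 4) (nat_lit 0x80902090d02030d0203080f0e090f0408) (Net.cons (nat_lit 2) (nat_lit 0x2022132332022203200131313322130300) (Net.cons (nat_lit 1) (nat_lit 0x1401410111451010041141405440054000) Net.nil)))))))))))))))
noncomputable def v_N_2 : Net := (Net.cons (nat_lit 1) (nat_lit 0x5450004104405110441005455511140410) (Net.cons (nat_lit 2) (nat_lit 0x1231102201133232210020130000231000) (Net.cons (nat_lit 4) (nat_lit 0xd040d0300030a050b0603040e00070c00) (Net.cons (nat_lit 8) (nat_lit 0x890098006400890009007100070082) (Net.cons (nat_lit 16) (nat_lit 0x7de200002ca9000000d000000008) (Net.cons (nat_lit 32) (nat_lit 0x91c0a02c00000000000000f8) (Net.cons (nat_lit 64) (nat_lit 100) (Net.cons (nat_lit 128) (nat_lit 254) (Net.cons (nat_lit 64) (nat_lit 0x8ed312ef3f13a364)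 (Net.cons (nat_lit 32) (nat_lit 0x7f6217ac00000000cabbeaf8) (Net.cons (nat_lit 16) (nat_lit 0x987a00009e39000097d00000a1d8) (Net.cons (nat_lit 8) (nat_lit 0x99009800750098000900e100860086) (Net.cons (nat_lit 4) (nat_lit 0xd010c0700030e040b0703040e00030c00) (Net.cons (nat_lit 2) (nat_lit 0x1210112303133222211020030222321010) (Net.cons (nat_lit 1) (nat_lit 0x5450004104405110441005455511140410) Net.nil)))))))))))))))
noncomputable def v_N_3 : Net := (Net.cons (nat_lit 1) (nat_lit 0x404044441504011440515051004110000) (Net.cons (nat_lit 2) (nat_lit 0x3301121232201000003122033331103000) (Net.cons (nat_lit 4) (nat_lit 0xf0d0e0d04020206020e040c02020f0000) (Net.cons (nat_lit 8) (nat_lit 0xe800020046005e00f700680018002a) (Net.cons (nat_lit 16) (nat_lit 0xb48b000040100000005e00000004) (Net.cons (nat_lit 32) (nat_lit 0x80800978000000000000005a) (Net.cons (nat_lit 64) (nat_lit 111) (Net.cons (nat_lit 128) (nat_lit 255) (Net.cons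 (nat_lit 64) (nat_lit 0x83aea04a0c1edb5f) (Net.cons (nat_lit 32) (nat_lit 0x88c194f8000000006160817e) (Net.cons (nat_lit 16) (nat_lit 0xbdab0000e8300000d52d00001934) (Net.cons (nat_lit 8) (nat_lit 0xe800a40046004e00b7002800c8003a) (Net.cons (nat_lit 4) (nat_lit 0xf0c0e0f06030207020c040c0a020f0100) (Net.cons (nat_lit 2) (nat_lit 0x3301121232201000003132133331103000) (Net.cons (nat_lit 1) (nat_lit 0x14044401544011444515055004114004) Net.nil)))))))))))))))
noncomputable def v_N_4 : Net := (Net.cons (nat_lit 1) (nat_lit 0x4515455005051111100014501440050400) (Net.cons (nat_lit 2) (nat_lit 0x321122233021033002210003023210210) (Net.cons (nat_lit 4) (nat_lit 0xf04050d01010707030600080f09040000) (Net.cons (nat_lit 8) (nat_lit 0xfd0013009d00310056007a00000000) (Net.cons (nat_lit 16) (nat_lit 0x88a2000088890000241e00000010) (Net.cons (nat_lit 32) (nat_lit 0x15444228000000000000001f) (Net.cons (nat_lit 64) (nat_lit 169) (Net.cons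 (nat_lit 128) (nat_lit 191) (Net.cons (nat_lit 64) (nat_lit 0xa9e5135e9c9370b8) (Net.cons (nat_lit 32) (nat_lit 0x904ae26e00000000158d180f) (Net.cons (nat_lit 16) (nat_lit 0x9ef50000d99c0000241f00000046) (Net.cons (nat_lit 8) (nat_lit 0xf900d3009d00b100c7002e00a40022) (Net.cons (nat_lit 4) (nat_lit 0xe01040a050206070407050a0b08050202) (Net.cons (nat_lit 2) (nat_lit 0x1321022232020233013212103122211210) (Net.cons (nat_lit 1) (nat_lit 0x5515455405050111104014501440051400) Net.nil)))))))))))))))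
noncomputable def v_N_5 : Net := (Net.cons (nat_lit 1) (nat_lit 0x4445444411141401511041115100414000) (Net.cons (nat_lit 2) (nat_lit 0x3101313032222032131220133120200000) (Net.cons (nat_lit 4) (nat_lit 0xd0507010b070c060b0d04000c0d0000) (Net.cons (nat_lit 8) (nat_lit 0x21004800e4005c006100c70077004b) (Net.cons (nat_lit 16) (nat_lit 0xd307000024560000043e00000080) (Net.cons (nat_lit 32) (nat_lit 0xf1a04482000000000000000c) (Net.cons (nat_lit 64) (nat_lit 229) (Net.cons (nat_lit 128) (nat_lit 239) (Net.cons (nat_lit 64) (nat_lit 0x422e0c27bdd242e5) (Net.cons (nat_lit 32) (nat_lit 0xbab0be9a000000005a044ad9) (Net.cons (nat_lit 16) (nat_lit 0x9c4200007fd600005e3b00005aad) (Net.cons (nat_lit 8) (nat_lit 0x30004900e4004c00e100c70067004b) (Net.cons (nat_lit 4) (nat_lit 0xc0506010a0f0d060a0d05010d0c0100) (Net.cons (nat_lit 2) (nat_lit 0x3101313032222032131220133120200000) (Net.cons (nat_lit 1) (nat_lit 0x4445444411141401511041115100414000)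 Net.nil)))))))))))))))
noncomputable def v_N : List Net := [v_N_0, v_N_1, v_N_2, v_N_3, v_N_4, v_N_5]
noncomputable def v_cg : List Lvl := [⟨(nat_lit 1), [[(nat_lit 7), (nat_lit 1), (nat_lit 3)],
  [(nat_lit 3), (nat_lit 5), (nat_lit 9), (nat_lit 11)]], (nat_lit 7)⟩,
  ⟨(nat_lit 2), [[(nat_lit 3), (nat_lit 7), (nat_lit 5), (nat_lit 9), (nat_lit 5), (nat_lit 3), (nat_lit 7), (nat_lit 5), (nat_lit 11), (nat_lit 1), (nat_lit 9)],
  [(nat_lit 5), (nat_lit 11)]], (nat_lit 5)⟩,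
  ⟨(nat_lit 3), [[(nat_lit 7), (nat_lit 5), (nat_lit 3), (nat_lit 1), (nat_lit 3), (nat_lit 5), (nat_lit 7)],
  [(nat_lit 9), (nat_lit 5), (nat_lit 3), (nat_lit 5), (nat_lit 1), (nat_lit 3), (nat_lit 7), (nat_lit 5), (nat_lit 9), (nat_lit 5), (nat_lit 3)],
  [(nat_lit 11), (nat_lit 9), (nat_lit 5), (nat_lit 7), (nat_lit 3), (nat_lit 5), (nat_lit 7), (nat_lit 1), (nat_lit 7), (nat_lit 9), (nat_lit 5), (nat_lit 7), (nat_lit 5), (nat_lit 3), (nat_lit 5), (nat_lit 9), (nat_lit 11)]], (nat_lit 1)⟩,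
  ⟨(nat_lit 4), [[(nat_lit 3), (nat_lit 5), (nat_lit 7), (nat_lit 5), (nat_lit 9), (nat_lit 3), (nat_lit 11), (nat_lit 5), (nat_lit 9), (nat_lit 7), (nat_lit 5), (nat_lit 3), (nat_lit 5), (nat_lit 7), (nat_lit 9), (nat_lit 1), (nat_lit 7), (nat_lit 5), (nat_lit 3), (nat_lit 5), (nat_lit 9), (nat_lit 7), (nat_lit 5), (nat_lit 11), (nat_lit 9), (nat_lit 5), (nat_lit 3), (nat_lit 5), (nat_lit 7), (nat_lit 5), (nat_lit 11), (nat_lit 3), (nat_lit 9), (nat_lit 1)]], (nat_lit 1)⟩]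
noncomputable def gq : List Nat := [(nat_lit 28), (nat_lit 3), (nat_lit 44), (nat_lit 3), (nat_lit 9), (nat_lit 46), (nat_lit 43), (nat_lit 59), (nat_lit 37), (nat_lit 39), (nat_lit 28), (nat_lit 24)]
noncomputable def gu : List Nat := [(nat_lit 3), (nat_lit 5), (nat_lit 9), (nat_lit 11), (nat_lit 13)]
noncomputable def gz : List Nat := [(nat_lit 28), (nat_lit 29), (nat_lit 53), (nat_lit 32), (nat_lit 28), (nat_lit 53), (nat_lit 13)]

theorem a_cen_0 : allFrom (cenAt (eqLq eq0) 2 a_gs a_pc) 0 11 = true := by decide +kernel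
theorem a_cen : ∀ i < 11, cenAt (eqLq eq0) 2 a_gs a_pc i = true := (lt_add_all lt_zero_all 11 a_cen_0)
theorem a_u_inc : incOK a_u_pi 3510 82 = true := by decide +kernel
theorem a_u_wf : wfAll a_u_N 82 = true := by decide +kernel
theorem a_u_tab_0 : allFrom (tabOK a_u_N 82 7 7 10 a_u_TT) 0 16 = true := by decide +kernel
theorem a_u_tab_16 : allFrom (tabOK a_u_N 82 7 7 10 a_u_TT) 16 5 = true := by decide +kernel
theorem a_u_tabs : Tabs a_u_N 82 10 7 a_u_TT 20 :=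
  tabs_of (k := 7) (wf_of_wfAll a_u_wf) (by decide) (by decide) (by decide) (lt_add_all (lt_add_all lt_zero_all 16 a_u_tab_0) 5 a_u_tab_16)
theorem a_u_s_0 : allFrom (subT (evT TT (nat_lit 62) (nat_lit 10) (nat_lit 1023) (nat_lit 12) (nat_lit 4095)) (recT a_u_TT (nat_lit 10) (nat_lit 1023) (nat_lit 7) (nat_lit 127)) a_u_pi a_hs (nat_lit 82)) 0 10 = true := by decide +kernel
theorem a_ge : geOK a_u_N 82 (gensW 10) a_c 2048 = true := by decide +kernel
theorem a_mem : memOK (eqLq eq0) a_gs a_hs [[(nat_lit 1)],  [(nat_lit 3)],  [(nat_lit 5)],  [(nat_lit 7)],  [(nat_lit 9)],  [(nat_lit 11)],  [(nat_lit 13)],  [(nat_lit 15)],  [(nat_lit 17)],  [(nat_lit 19)]] = true := by decide +kernel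
theorem y_c_0 : allFrom (ctrAt (eqLq eq0) 2 a_gs y_du) 0 10 = true := by decide +kernel
theorem y_ctr : ∀ i < 10, ctrAt (eqLq eq0) 2 a_gs y_du i = true := (lt_add_all lt_zero_all 10 y_c_0)
theorem r_act_0 : allFrom (actAt (eqLq eq0) 2 a_gs 0 10 a_W r_As r_us) 0 6 = true := by decide +kernel
theorem r_nrm : nrmOK (eqLq eq0) a_W (ldrop 10 a_gs) r_vs = true := by decide +kernel
theorem v_vec : VecOK (tabP 2) 136 10 6 v_V v_s r_As v_N :=
  ⟨by decide +kernel, by decide +kernel, rfl, by decide +kernel⟩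
theorem v_wf : wfAll v_N 136 = true := by decide +kernel
theorem v_cgok : cgOK v_N 136 v_cg 51840 = true := by decide +kernel
theorem v_ge : 51840 ≤ Nat.card (PG v_N) := PG.card_ge (wf_of_wfAll v_wf) (by decide) v_cgok
theorem v_e6 : e6OK (sameW v_N 136 8) = true := by decide +kernel
theorem w_com : comOK eq0 (lapp a_W a_gs) [F22.Z2.zw] = true := by decide +kernel
theorem g_cj : eq0 (lapp gq F22.Z2.zw) (lapp gz gq) = true := by decide +kernel
theorem g_mem : memOK eq0 a_gs [gz] [gu] = true := by decide +kernel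
theorem g_ne : eq0 gz F22.Z2.zw = false := by decide +kernel

variable {G : Type*} [Group G] {D : Set G} {E : Dom (Cj G) 3510} {f : ℕ → G} {NN : List Net}

open Cfsg Matrix

theorem a_u_reps (M : MA D E f) : Reps (Dom.lst E a_u_pi a_u_inc) a_u_N (evs f a_hs) :=
  Reps.subT M.reps tabs (by decide) (wf_of_wfAll a_u_wf) a_u_tabs (l := 10) (by decide) rfl rfl a_u_inc
    (by decide) (by decide) (by decide) (by decide) (lt_add_all lt_zero_all 10 a_u_s_0)
theorem a_cens (M : MA D E f) : CenS f 2 a_gs :=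
  have := M.finite
  ⟨M.sm0.eqLq.cenR (l := 11) rfl a_cen, by norm_num,
    (Reps.card_geT (a_u_reps M) (by decide) rfl a_ge).trans (card_le_of_le (M.sm0.eqLq.le a_mem))⟩
theorem r_sec (M : MA D E f) : Sec f 2 a_gs 0 (0 + 10) :=
  M.sm0.eqLq.sec (l := 11) rfl a_cen (by decide +kernel)
theorem r_rho (M : MA D E f) : ∃ c ρ, RhoW f 2 a_gs 0 10 6 a_W r_As c ρ :=
  have := M.finite
  M.sm0.eqLq.rho (a_cens M) (r_sec M) rfl (lt_add_all lt_zero_all 6 r_act_0) r_nrm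
theorem v_psi (M : MA D E f) : ∃ ψ, PsiW f a_gs a_W v_N ψ :=
  have ⟨_, _, h⟩ := r_rho M
  (h.vec v_vec).imp fun _ h => h.1

theorem eqv : Nonempty (PG v_N ≃* O6m) :=
  PG.e6 (wf_of_wfAll v_wf) (PG.isSm (wf_of_wfAll v_wf) (by decide) (by decide)) v_e6 rfl v_ge

theorem ext0 (M : MA D E f) (h : Nat.card (centralizer {ev f F22.Z2.zw}) ≤ 2 ^ 11 * 51840) : ∃ R : Subgroup G,
    (generalizedFittingSubgroup (centralizer {ev f F22.Z2.zw})).map (Subgroup.subtype _) = R ∧ IsLargeExtraspecial R ∧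
      Nat.card R = 2 ^ 11 ∧ Ext (centralizer {ev f F22.Z2.zw}) R O6m := by
  have := M.finite
  obtain ⟨ψ, hψ⟩ := v_psi M
  obtain ⟨-, h1, h2⟩ := hψ.psi.ext (M.sm0.com_le1 w_com)
    (h.trans (by rw [(a_cens M).card0]; exact Nat.mul_le_mul_left (2 ^ 11) v_ge))
  have h3 := ((a_cens M).extra M.sm0.eqLq (l := 10) rfl (by decide) y_ctr (by decide +kernel) (r_sec M)).1
  have h4 := ((h1.congr eqv).xs F22.Z2.core h2 h3).1
  exact ⟨_, h4, ((CF.LX.lq_of_fstar (M.sm0.ord (by norm_num) (by decide +kernel)) h4 h3).1.pair (g := ev f gq)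
    (by rw [(a_cens M).card0]; decide) (M.sm0.conj g_cj ▸ M.sm0.ne g_ne)
    (M.sm0.conj g_cj ▸ M.sm0.le g_mem (ev_mem_clo f (by simp)))).large, (a_cens M).card0, h1.congr eqv⟩

theorem spec (M : F22.M22 D E f) {a b : G} (h : Cq D [a, b]) : ∃ R : Subgroup (MulAut G),
    (generalizedFittingSubgroup (centralizer {MulAut.conj (a * b)})).map (Subgroup.subtype _) = R ∧
      IsLargeExtraspecial R ∧ Nat.card R = 2 ^ 11 ∧ Ext (centralizer {MulAut.conj (a * b)}) R O6m := by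
  have := M.finite
  obtain ⟨E, f, M, rfl, rfl⟩ := M.tup2 h
  obtain ⟨E', f', L, A⟩ := aut M
  have e : MulAut.conj (el E 0 * el E 1) = ev f' F22.Z2.zw := by rw [F22.Z2.zz M, L.ev (by decide +kernel)]
  exact e ▸ ext0 A (e ▸ (card_cent_inn M.center (card_aut22 M) _).trans
    ((Nat.mul_le_mul_left 2 (F22.Z2.le M h)).trans (by decide)))

end CF.Fisch.FA.Z4
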